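import Mathlib

/-!
# Exact functors extend exactly to filtered unions
-/

set_option autoImplicit false
set_option linter.style.haveILetI false
set_option backward.isDefEq.respectTransparency false

universe u v w v' u'

open CategoryTheory CategoryTheory.Limits

noncomputable section

namespace Groth.Agent.IndExtLib

variable {𝒜 : Type w} [Category.{v} 𝒜] [Abelian 𝒜] {P Q : ObjectProperty 𝒜}

/-- The properties of the inclusion of small objects among their filtered unions which are used below. -/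
structure Gen (P Q : ObjectProperty 𝒜) : Prop where
  pres : ∀ M, Q M → ∃ (J : Type u) (_ : SmallCategory J) (_ : IsFiltered J) (p : ColimitPresentation J M),
    (∀ j, P (p.diag.obj j)) ∧ ∀ j, Mono (p.ι.app j)
  fac : ∀ {J : Type u} [SmallCategory J] [IsFiltered J] {M : 𝒜} (p : ColimitPresentation J M),
    (∀ j, P (p.diag.obj j)) → ∀ {Y : 𝒜}, P Y → ∀ σ : Y ⟶ M, ∃ (j : J) (g : Y ⟶ p.diag.obj j), g ≫ p.ι.app j = σ
  lift : ∀ {F G : 𝒜} (π : F ⟶ G) [Epi π], Q F → Q G → ∀ {Y : 𝒜}, P Y → ∀ y : Y ⟶ G,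
    ∃ (I : 𝒜) (e : I ⟶ F) (r : I ⟶ Y), P I ∧ Epi r ∧ e ≫ π = r ≫ y

variable (hPQ : P ≤ Q) {A' : Type u'} [Category.{v'} A'] [Abelian A']
  (G : P.FullSubcategory ⥤ A') [(ObjectProperty.ιOfLE hPQ).HasPointwiseLeftKanExtension G]

/-- The extension. -/
abbrev L : Q.FullSubcategory ⥤ A' := (ObjectProperty.ιOfLE hPQ).pointwiseLeftKanExtension G

/-- The value of the extension receives the values on small objects mapping to the argument. -/
def a {M : Q.FullSubcategory} (Y : P.FullSubcategory) (y : Y.obj ⟶ M.obj) : G.obj Y ⟶ (L hPQ G).obj M :=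
  colimit.ι (CostructuredArrow.proj (ObjectProperty.ιOfLE hPQ) M ⋙ G)
    (CostructuredArrow.mk (Y := Y) (ObjectProperty.homMk y : (ObjectProperty.ιOfLE hPQ).obj Y ⟶ M))

@[reassoc]
theorem map_a {M : Q.FullSubcategory} {Y' Y : P.FullSubcategory} (φ : Y' ⟶ Y) (y : Y.obj ⟶ M.obj) :
    G.map φ ≫ a hPQ G Y y = a hPQ G Y' (φ.hom ≫ y) :=
  colimit.w (CostructuredArrow.proj (ObjectProperty.ιOfLE hPQ) M ⋙ G)
    (CostructuredArrow.homMk φ (ObjectProperty.hom_ext _ rfl) :
      CostructuredArrow.mk (Y := Y') (ObjectProperty.homMk (φ.hom ≫ y) : (ObjectProperty.ιOfLE hPQ).obj Y' ⟶ M) ⟶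
        CostructuredArrow.mk (Y := Y) (ObjectProperty.homMk y : (ObjectProperty.ιOfLE hPQ).obj Y ⟶ M))

@[reassoc]
theorem a_map {M N : Q.FullSubcategory} (f : M ⟶ N) (Y : P.FullSubcategory) (y : Y.obj ⟶ M.obj) :
    a hPQ G Y y ≫ (L hPQ G).map f = a hPQ G Y (y ≫ f.hom) := by
  exact (colimit.ι_desc _ _).trans rfl

theorem hom_ext {M : Q.FullSubcategory} {T : A'} {s t : (L hPQ G).obj M ⟶ T}
    (h : ∀ (Y : P.FullSubcategory) (y : Y.obj ⟶ M.obj), a hPQ G Y y ≫ s = a hPQ G Y y ≫ t) : s = t :=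
  colimit.hom_ext fun g => h g.left g.hom.hom

/-- Maps out of a value of the extension. -/
def desc {M : Q.FullSubcategory} {T : A'} (s : ∀ (Y : P.FullSubcategory), (Y.obj ⟶ M.obj) → (G.obj Y ⟶ T))
    (hs : ∀ {Y' Y : P.FullSubcategory} (φ : Y' ⟶ Y) (y : Y.obj ⟶ M.obj), G.map φ ≫ s Y y = s Y' (φ.hom ≫ y)) :
    (L hPQ G).obj M ⟶ T :=
  colimit.desc (CostructuredArrow.proj (ObjectProperty.ιOfLE hPQ) M ⋙ G)
    { pt := T
      ι :=
        { app := fun g => s g.left g.hom.hom
          naturality := fun g g' φ => by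
            refine ((hs φ.left g'.hom.hom).trans (congrArg (s g.left) ?_)).trans (Category.comp_id _).symm
            exact congrArg (fun k => k.hom) (CostructuredArrow.w φ) } }

theorem a_desc {M : Q.FullSubcategory} {T : A'} (s : ∀ (Y : P.FullSubcategory), (Y.obj ⟶ M.obj) → (G.obj Y ⟶ T))
    (hs : ∀ {Y' Y : P.FullSubcategory} (φ : Y' ⟶ Y) (y : Y.obj ⟶ M.obj), G.map φ ≫ s Y y = s Y' (φ.hom ≫ y))
    (Y : P.FullSubcategory) (y : Y.obj ⟶ M.obj) : a hPQ G Y y ≫ desc hPQ G s hs = s Y y :=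
  colimit.ι_desc _ _

section Pres

variable (hg : Gen.{u} P Q) {J : Type u} [SmallCategory J] [IsFiltered J] {M : Q.FullSubcategory}
  (p : ColimitPresentation J M.obj) (hp : ∀ j, P (p.diag.obj j))

/-- The cocone on the values at the members of a presentation. -/
def cocone : Cocone (P.lift p.diag hp ⋙ G) where
  pt := (L hPQ G).obj M
  ι :=
    { app := fun j => a hPQ G ((P.lift p.diag hp).obj j) (p.ι.app j)
      naturality := fun j k u => by
        refine ((map_a hPQ G _ _).trans (congrArg (a hPQ G _) ?_)).trans (Category.comp_id _).symm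
        exact (p.ι.naturality u).trans (Category.comp_id _) }

include hg in
theorem exists_a_eq (Y : P.FullSubcategory) (y : Y.obj ⟶ M.obj) :
    ∃ (j : J) (h : Y ⟶ (P.lift p.diag hp).obj j), h.hom ≫ p.ι.app j = y ∧
      a hPQ G Y y = G.map h ≫ (cocone hPQ G p hp).ι.app j := by
  obtain ⟨j, g, e⟩ := hg.fac p hp Y.property y
  refine ⟨j, ObjectProperty.homMk g, e, ?_⟩
  exact (((map_a hPQ G _ _).trans (congrArg (a hPQ G Y) e))).symm

include hg in
/-- The extension is computed on a presentation by monomorphisms. -/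
theorem nonempty_isColimit (hm : ∀ j, Mono (p.ι.app j)) : Nonempty (IsColimit (cocone hPQ G p hp)) := by
  have key : ∀ (s : Cocone (P.lift p.diag hp ⋙ G)) (Y : P.FullSubcategory) (j k : J)
      (h : Y ⟶ (P.lift p.diag hp).obj j) (l : Y ⟶ (P.lift p.diag hp).obj k),
      h.hom ≫ p.ι.app j = l.hom ≫ p.ι.app k → G.map h ≫ s.ι.app j = G.map l ≫ s.ι.app k := by
    intro s Y j k h l e
    obtain ⟨m, u, v, -⟩ : ∃ (m : J) (_ : j ⟶ m) (_ : k ⟶ m), True :=
      ⟨_, IsFiltered.leftToMax j k, IsFiltered.rightToMax j k, trivial⟩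
    haveI : Mono (show p.diag.obj m ⟶ M.obj from p.ι.app m) := hm m
    have e' : h ≫ (P.lift p.diag hp).map u = l ≫ (P.lift p.diag hp).map v := by
      refine ObjectProperty.hom_ext _ ((cancel_mono (show p.diag.obj m ⟶ M.obj from p.ι.app m)).1 ?_)
      show (h.hom ≫ p.diag.map u) ≫ p.ι.app m = (l.hom ≫ p.diag.map v) ≫ p.ι.app m
      rw [Category.assoc, Category.assoc]
      refine (congrArg (h.hom ≫ ·) ((p.ι.naturality u).trans (Category.comp_id _))).trans (e.trans ?_)
      exact (congrArg (l.hom ≫ ·) ((p.ι.naturality v).trans (Category.comp_id _))).symm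
    rw [← s.w u, ← s.w v]
    exact ((Category.assoc _ _ _).symm.trans (congrArg (· ≫ s.ι.app m) ((G.map_comp _ _).symm.trans
      ((congrArg G.map e').trans (G.map_comp _ _))))).trans (Category.assoc _ _ _)
  choose j h hh using fun (Y : P.FullSubcategory) (y : Y.obj ⟶ M.obj) => exists_a_eq hPQ G hg p hp Y y
  refine ⟨{ desc := fun s => desc hPQ G (fun Y y => G.map (h Y y) ≫ s.ι.app (j Y y)) ?_, fac := ?_, uniq := ?_ }⟩
  · intro Y' Y φ y
    rw [← G.map_comp_assoc]
    refine key s Y' _ _ _ _ ?_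
    show (φ.hom ≫ (h Y y).hom) ≫ p.ι.app (j Y y) = _
    rw [Category.assoc, (hh Y y).1]
    exact (hh Y' _).1.symm
  · intro s k
    refine (a_desc hPQ G _ _ _ _).trans ?_
    refine (key s _ _ k _ (𝟙 _) ((hh _ _).1.trans (Category.id_comp _).symm)).trans ?_
    rw [G.map_id, Category.id_comp]
  · intro s m hm'
    refine hom_ext hPQ G fun Y y => ?_
    rw [a_desc, (hh Y y).2, Category.assoc, hm']

end Pres

variable (hg : Gen.{u} P Q) [P.ContainsZero] [P.IsClosedUnderKernels] [P.IsClosedUnderCokernels]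
  [P.IsClosedUnderFiniteProducts] [PreservesFiniteLimits G] [PreservesFiniteColimits G]

theorem mono_map {Y' Y : P.FullSubcategory} (φ : Y' ⟶ Y) (h : Mono φ.hom) : Mono (G.map φ) :=
  haveI : Mono (P.ι.map φ) := h
  haveI := P.ι.mono_of_mono_map (f := φ) inferInstance
  inferInstance

theorem epi_map {Y' Y : P.FullSubcategory} (φ : Y' ⟶ Y) (h : Epi φ.hom) : Epi (G.map φ) :=
  haveI : Epi (P.ι.map φ) := h
  haveI := P.ι.epi_of_epi_map (f := φ) inferInstance
  inferInstance

variable [HasFilteredColimitsOfSize.{u, u} A'] [AB5OfSize.{u, u} A']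

include hg in
theorem mono_a {M : Q.FullSubcategory} (Y : P.FullSubcategory) (y : Y.obj ⟶ M.obj) [Mono y] :
    Mono (a hPQ G Y y) := by
  obtain ⟨J, _, _, p, hp, hm⟩ := hg.pres _ M.property
  obtain ⟨hc⟩ := nonempty_isColimit hPQ G hg p hp hm
  obtain ⟨j, h, e, he⟩ := exists_a_eq hPQ G hg p hp Y y
  haveI : ∀ (i k : J) (u : i ⟶ k), Mono ((P.lift p.diag hp ⋙ G).map u) := fun i k u => by
    refine mono_map G _ ?_
    haveI : Mono (p.diag.map u ≫ p.ι.app k) := by
      rw [show p.diag.map u ≫ p.ι.app k = p.ι.app i from (p.ι.naturality u).trans (Category.comp_id _)]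
      exact hm i
    exact mono_of_mono (p.diag.map u) (p.ι.app k)
  haveI := hc.mono_ι_app_of_isFiltered j
  haveI : Mono (h.hom ≫ p.ι.app j) := by rw [e]; infer_instance
  haveI := mono_map G h (mono_of_mono h.hom (p.ι.app j))
  rw [he]
  exact mono_comp _ _

include hg in
theorem a_add {M : Q.FullSubcategory} (Y : P.FullSubcategory) (y y' : Y.obj ⟶ M.obj) :
    a hPQ G Y (y + y') = a hPQ G Y y + a hPQ G Y y' := by
  obtain ⟨J, _, _, p, hp, hm⟩ := hg.pres _ M.property
  obtain ⟨j, h, e, -⟩ := exists_a_eq hPQ G hg p hp Y y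
  obtain ⟨j', h', e', -⟩ := exists_a_eq hPQ G hg p hp Y y'
  haveI : PreservesBinaryBiproducts G := preservesBinaryBiproducts_of_preservesBinaryProducts G
  haveI : G.Additive := Functor.additive_of_preservesBinaryBiproducts G
  let X := P.lift p.diag hp
  let l : Y ⟶ X.obj (IsFiltered.max j j') := h ≫ X.map (IsFiltered.leftToMax j j')
  let l' : Y ⟶ X.obj (IsFiltered.max j j') := h' ≫ X.map (IsFiltered.rightToMax j j')
  have hl : l.hom ≫ p.ι.app (IsFiltered.max j j') = y := by
    show (h.hom ≫ p.diag.map _) ≫ _ = y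
    rw [Category.assoc]
    exact (congrArg (h.hom ≫ ·) ((p.ι.naturality (IsFiltered.leftToMax j j')).trans (Category.comp_id _))).trans e
  have hl' : l'.hom ≫ p.ι.app (IsFiltered.max j j') = y' := by
    show (h'.hom ≫ p.diag.map _) ≫ _ = y'
    rw [Category.assoc]
    exact (congrArg (h'.hom ≫ ·) ((p.ι.naturality (IsFiltered.rightToMax j j')).trans (Category.comp_id _))).trans e'
  have hll : (l + l').hom ≫ p.ι.app (IsFiltered.max j j') = y + y' := by
    show (l.hom + l'.hom) ≫ _ = _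
    rw [Preadditive.add_comp, hl, hl']
  rw [← hll, ← map_a hPQ G, G.map_add, Preadditive.add_comp, map_a, map_a, hl, hl']

variable [Q.ContainsZero] [Q.IsClosedUnderKernels] [Q.IsClosedUnderCokernels] [Q.IsClosedUnderFiniteProducts]

include hg in
theorem additive : (L hPQ G).Additive :=
  ⟨fun {M N f g} => hom_ext hPQ G fun Y y => by
    rw [a_map, Preadditive.comp_add, a_map, a_map]
    exact (congrArg (a hPQ G Y) (Preadditive.comp_add _ _ _ y f.hom g.hom)).trans (a_add hPQ G hg Y _ _)⟩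

include hg in
theorem mono_L {M N : Q.FullSubcategory} (f : M ⟶ N) [Mono f] : Mono ((L hPQ G).map f) := by
  haveI := Q.preservesMonomorphisms_ι_of_isNormalEpiCategory
  haveI : Mono f.hom := inferInstanceAs (Mono (Q.ι.map f))
  obtain ⟨J, _, _, p, hp, hm⟩ := hg.pres _ M.property
  obtain ⟨hc⟩ := nonempty_isColimit hPQ G hg p hp hm
  haveI := IsFiltered.isConnected J
  let φ : (P.lift p.diag hp ⋙ G) ⟶ (Functor.const J).obj ((L hPQ G).obj N) :=
    { app := fun j => (cocone hPQ G p hp).ι.app j ≫ (L hPQ G).map f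
      naturality := fun i k u => by
        rw [← Category.assoc, (cocone hPQ G p hp).w u]
        exact (Category.comp_id _).symm }
  haveI : ∀ j, Mono (φ.app j) := fun j => by
    haveI := hm j
    show Mono (a hPQ G _ _ ≫ (L hPQ G).map f)
    rw [a_map]
    exact mono_a hPQ G hg _ _
  haveI := NatTrans.mono_of_mono_app φ
  exact colim.map_mono' φ hc (isColimitConstCocone _ _) ((L hPQ G).map f) fun j => (Category.comp_id _).symm

include hg in
/-- The extension of a quotient is the cokernel of the extension of its kernel. -/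
theorem shortExact (S : ShortComplex Q.FullSubcategory) (hS : S.ShortExact) :
    haveI := additive hPQ G hg
    (S.map (L hPQ G)).ShortExact := by
  haveI := additive hPQ G hg
  haveI := hS.mono_f
  haveI := hS.epi_g
  haveI := Q.preservesEpimorphisms_ι_of_isNormalMonoCategory
  haveI : Epi S.g.hom := inferInstanceAs (Epi (Q.ι.map S.g))
  haveI : Mono (S.map (L hPQ G)).f := mono_L hPQ G hg S.f
  choose I e r hI hr her using fun (Y : P.FullSubcategory) (y : Y.obj ⟶ S.X₃.obj) =>
    hg.lift S.g.hom S.X₂.property S.X₃.property Y.property y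
  let IC : ∀ Y y, P.FullSubcategory := fun Y y => ⟨I Y y, hI Y y⟩
  let rC : ∀ Y y, IC Y y ⟶ Y := fun Y y => ObjectProperty.homMk (r Y y)
  haveI hrC : ∀ Y y, Epi (rC Y y) := fun Y y =>
    haveI : Epi (P.ι.map (rC Y y)) := hr Y y
    P.ι.epi_of_epi_map inferInstance
  haveI : Epi (S.map (L hPQ G)).g := ⟨fun {T} s t hst => hom_ext hPQ G fun Y y => by
    rw [← cancel_epi (G.map (rC Y y)), map_a_assoc, map_a_assoc]
    have h1 : (rC Y y).hom ≫ y = e Y y ≫ S.g.hom := (her Y y).symm
    rw [h1, ← a_map, Category.assoc, Category.assoc]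
    exact congrArg (a hPQ G (IC Y y) (e Y y) ≫ ·) hst⟩
  have hex : (S.map (L hPQ G)).Exact := by
    refine ShortComplex.exact_of_g_is_cokernel _ ?_
    have zero : ∀ {T : A'} (t : (L hPQ G).obj S.X₂ ⟶ T), (L hPQ G).map S.f ≫ t = 0 →
        ∀ (Z : P.FullSubcategory) (z : Z.obj ⟶ S.X₂.obj), z ≫ S.g.hom = 0 → a hPQ G Z z ≫ t = 0 := by
      intro T t ht Z z hz
      let z' : (ObjectProperty.ιOfLE hPQ).obj Z ⟶ S.X₂ := ObjectProperty.homMk z
      have hz' : z' ≫ S.g = 0 := ObjectProperty.hom_ext _ hz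
      have hw : (hS.exact.lift z' hz').hom ≫ S.f.hom = z :=
        congrArg (fun k => k.hom) (hS.exact.lift_f z' hz')
      rw [← hw, ← a_map, Category.assoc, ht, comp_zero]
    have key0 : ∀ {T : A'} (t : (L hPQ G).obj S.X₂ ⟶ T), (L hPQ G).map S.f ≫ t = 0 → ∀ Y y,
        kernel.ι (G.map (rC Y y)) ≫ a hPQ G (IC Y y) (e Y y) ≫ t = 0 := by
      intro T t ht Y y
      rw [← PreservesKernel.iso_inv_ι G (rC Y y), Category.assoc, map_a_assoc,
        zero t ht _ _ (by
          rw [Category.assoc, her, ← Category.assoc]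
          exact (congrArg (· ≫ y) (congrArg (fun k => k.hom) (kernel.condition (rC Y y)))).trans zero_comp),
        comp_zero]
    let sf : ∀ {T : A'} (t : (L hPQ G).obj S.X₂ ⟶ T), (L hPQ G).map S.f ≫ t = 0 →
        ∀ (Y : P.FullSubcategory), (Y.obj ⟶ S.X₃.obj) → (G.obj Y ⟶ T) := fun t ht Y y =>
      Abelian.epiDesc (G.map (rC Y y)) (a hPQ G (IC Y y) (e Y y) ≫ t) (key0 t ht Y y)
    have hsf : ∀ {T : A'} (t : (L hPQ G).obj S.X₂ ⟶ T) (ht : (L hPQ G).map S.f ≫ t = 0)
        (Y W : P.FullSubcategory) (y : Y.obj ⟶ S.X₃.obj) (c : W.obj ⟶ S.X₂.obj) (q : W ⟶ Y),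
        c ≫ S.g.hom = q.hom ≫ y → G.map q ≫ sf t ht Y y = a hPQ G W c ≫ t := by
      intro T t ht Y W y c q hq
      let p₀ := pullback.fst (rC Y y) q
      let p₁ := pullback.snd (rC Y y) q
      rw [← cancel_epi (G.map p₁), ← G.map_comp_assoc, ← pullback.condition, G.map_comp_assoc, map_a_assoc]
      rw [show G.map (rC Y y) ≫ sf t ht Y y = a hPQ G (IC Y y) (e Y y) ≫ t from Abelian.comp_epiDesc _ _ _,
        map_a_assoc, ← sub_eq_zero, ← Preadditive.sub_comp]
      have h0 : (p₀.hom ≫ e Y y - p₁.hom ≫ c) ≫ S.g.hom = 0 := by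
        rw [Preadditive.sub_comp, Category.assoc, Category.assoc, her, hq, ← Category.assoc, ← Category.assoc,
          sub_eq_zero]
        exact congrArg (fun k => k.hom ≫ y) (pullback.condition (f := rC Y y) (g := q))
      have h1 := zero t ht _ _ h0
      have h2 := a_add hPQ G hg _ (p₀.hom ≫ e Y y - p₁.hom ≫ c) (p₁.hom ≫ c)
      rw [sub_add_cancel] at h2
      rw [h2, add_sub_cancel_right]
      exact h1
    refine CokernelCofork.IsColimit.ofπ _ _ (fun {T} t ht => desc hPQ G (sf t ht) ?_) (fun {T} t ht => ?_) ?_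
    · intro Y' Y φ y
      rw [← cancel_epi (G.map (rC Y' (φ.hom ≫ y))), ← G.map_comp_assoc,
        hsf t ht Y _ y (e Y' (φ.hom ≫ y)) _ ((her Y' _).trans (Category.assoc _ _ _).symm)]
      exact (Abelian.comp_epiDesc _ _ _).symm
    · refine hom_ext hPQ G fun Y y => ?_
      show a hPQ G Y y ≫ (L hPQ G).map S.g ≫ _ = _
      rw [a_map_assoc, a_desc, ← hsf t ht Y Y (y ≫ S.g.hom) y (𝟙 Y) (Category.id_comp _).symm, G.map_id,
        Category.id_comp]
    · intro T t ht m hm
      rw [← cancel_epi (S.map (L hPQ G)).g, hm]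
      refine (hom_ext hPQ G fun Y y => ?_).symm
      show a hPQ G Y y ≫ (L hPQ G).map S.g ≫ _ = _
      rw [a_map_assoc, a_desc, ← hsf t ht Y Y (y ≫ S.g.hom) y (𝟙 Y) (Category.id_comp _).symm, G.map_id,
        Category.id_comp]
  exact ShortComplex.ShortExact.mk hex

include hg in
/-- The extension of an exact functor is exact. -/
theorem preservesFiniteLimits_and_colimits :
    PreservesFiniteLimits (L hPQ G) ∧ PreservesFiniteColimits (L hPQ G) :=
  haveI := additive hPQ G hg
  ((L hPQ G).exact_tfae.out 0 3).1 (shortExact hPQ G hg)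

end Groth.Agent.IndExtLib
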